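import Groth.Prelude.Def_AlgSp2
import Mathlib.RingTheory.Spectrum.Prime.Chevalley
import Mathlib.RingTheory.FiniteType
import Mathlib.RingTheory.Polynomial.Basic
import Mathlib.FieldTheory.IsAlgClosed.Basic
import Mathlib.FieldTheory.Minpoly.Field

/-!
# Generic pairs of embeddings and finitely generated algebras
-/

universe u

open Polynomial Topology

namespace GrothLib.AlgSt.ClosedPointLift

variable {k L B : Type u} [Field k] [Field L] [CommRing B]

/-- A constructible set containing the generic point of the affine line is a neighbourhood of it. -/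
theorem mem_nhds_of_isConstructible {s : Set (PrimeSpectrum L[X])} (hs : IsConstructible s)
    (η : PrimeSpectrum L[X]) (hη : η.asIdeal = ⊥) (h : η ∈ s) : s ∈ 𝓝 η := by
  have key : (η ∈ s → s ∈ 𝓝 η) ∧ (η ∉ s → sᶜ ∈ 𝓝 η) := by
    clear h
    induction hs using IsConstructible.empty_union_induction with
    | open_retrocompact U hU _ =>
      refine ⟨fun h => hU.mem_nhds h, fun h => ?_⟩
      have : U = ∅ := Set.eq_empty_iff_forall_notMem.2 fun z hz => h
        ((PrimeSpectrum.le_iff_specializes η z).1 (show η.asIdeal ≤ z.asIdeal from hη ▸ bot_le) |>.mem_open hU hz)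
      simp [this]
    | union s _ t _ hs ht =>
      refine ⟨fun h => ?_, fun h => ?_⟩
      · rcases h with h | h
        · exact Filter.mem_of_superset (hs.1 h) Set.subset_union_left
        · exact Filter.mem_of_superset (ht.1 h) Set.subset_union_right
      · rw [Set.compl_union]
        exact Filter.inter_mem (hs.2 fun h' => h (Or.inl h')) (ht.2 fun h' => h (Or.inr h'))
    | compl s _ hs =>
      refine ⟨fun h => hs.2 h, fun h => ?_⟩
      rw [compl_compl]
      exact hs.1 (not_not.1 h)
  exact key.1 h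

/-- Over an infinite field, no prime of a finitely generated algebra lies over the generic pair. -/
theorem comap_ne_bot [Infinite k] (φ : k →+* L) {ξ : L} (hξ : ∀ c, ξ ≠ φ c) (α β : L →+* B)
    (hα : α.FiniteType) (hαβ : β.comp φ = α.comp φ) (P : Ideal B) [P.IsPrime] :
    P.comap (eval₂RingHom α (β ξ)) ≠ ⊥ := by
  intro hP
  let Q := eval₂RingHom α (β ξ)
  have hQ : Q.FinitePresentation := RingHom.FinitePresentation.of_finiteType.1 (by
    refine RingHom.FiniteType.of_comp_finiteType (f := (C : L →+* L[X])) ?_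
    rw [show Q.comp C = α from RingHom.ext fun a => by simp [Q]]
    exact hα)
  let η : PrimeSpectrum L[X] := PrimeSpectrum.comap Q ⟨P, inferInstance⟩
  have hn := mem_nhds_of_isConstructible (PrimeSpectrum.isConstructible_range_comap hQ) η hP ⟨_, rfl⟩
  obtain ⟨_, ⟨g, rfl⟩, hg, hsub⟩ := PrimeSpectrum.isTopologicalBasis_basic_opens.mem_nhds_iff.1 hn
  have hg0 : g ≠ 0 := fun h => hg (h ▸ η.asIdeal.zero_mem)
  obtain ⟨c, hc⟩ : ∃ c : k, ¬ g.IsRoot (φ c) := by
    by_contra h
    push Not at h
    exact hg0 (Polynomial.eq_zero_of_infinite_isRoot g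
      ((Set.infinite_range_of_injective φ.injective).mono (by rintro _ ⟨c, rfl⟩; exact h c)))
  let z : PrimeSpectrum L[X] := ⟨Ideal.span {X - C (φ c)}, by
    rw [Ideal.span_singleton_prime (X_sub_C_ne_zero _)]; exact prime_X_sub_C _⟩
  obtain ⟨P', hP'⟩ := hsub (show z ∈ (PrimeSpectrum.basicOpen g : Set (PrimeSpectrum L[X])) from fun h => hc (by
    rwa [← dvd_iff_isRoot, ← Ideal.mem_span_singleton]))
  have hmem : Q (X - C (φ c)) ∈ P'.asIdeal := by
    have : X - C (φ c) ∈ z.asIdeal := Ideal.subset_span rfl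
    rw [← hP'] at this
    exact this
  have : Q (X - C (φ c)) = β (ξ - φ c) := by
    simp only [Q, coe_eval₂RingHom, eval₂_X, eval₂_C, map_sub]
    rw [← RingHom.comp_apply β φ, hαβ]
    rfl
  rw [this] at hmem
  exact P'.2.ne_top (Ideal.eq_top_of_isUnit_mem _ hmem ((sub_ne_zero.2 (hξ c)).isUnit.map β))

/-- An element outside an algebraically closed subfield is part of a generic pair of embeddings. -/
theorem exists_generic_pair [IsAlgClosed k] (φ : k →+* L) {ξ : L} (hξ : ∀ c, ξ ≠ φ c) :
    ∃ (Ω : Type u) (_ : Field Ω) (σ₁ σ₂ : L →+* Ω), σ₁.comp φ = σ₂.comp φ ∧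
      Function.Injective (eval₂RingHom σ₁ (σ₂ ξ)) := by
  letI := φ.toAlgebra
  have hinj : Function.Injective (eval₂RingHom φ ξ) := by
    rw [injective_iff_map_eq_zero]
    intro p hp
    by_contra hp0
    have hi : IsIntegral k ξ := IsAlgebraic.isIntegral ⟨p, hp0, hp⟩
    obtain ⟨c, hc⟩ := minpoly.degree_eq_one_iff.1 (IsAlgClosed.degree_eq_one_of_irreducible k (minpoly.irreducible hi))
    exact hξ c hc.symm
  let f₂ : FractionRing k[X] →+* L := IsFractionRing.lift hinj
  have hinj₁ : Function.Injective ((algebraMap L[X] (FractionRing L[X])).comp (mapRingHom φ)) :=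
    (IsFractionRing.injective L[X] (FractionRing L[X])).comp (map_injective φ φ.injective)
  let f₁ : FractionRing k[X] →+* FractionRing L[X] := IsFractionRing.lift hinj₁
  obtain ⟨Ω, iΩ, i₁, i₂, hi⟩ := _root_.AlgSp.FieldPt.exists_amalgamation f₁ f₂
  have h1 : ∀ p, i₁ ((algebraMap L[X] (FractionRing L[X])) (p.map φ)) = i₂ (eval₂RingHom φ ξ p) := fun p => by
    have := RingHom.congr_fun hi (algebraMap k[X] (FractionRing k[X]) p)
    simpa [f₁, f₂] using this
  refine ⟨Ω, iΩ, (i₁.comp (algebraMap L[X] (FractionRing L[X]))).comp C, i₂, RingHom.ext fun c => ?_, ?_⟩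
  · simpa using h1 (C c)
  · have : eval₂RingHom ((i₁.comp (algebraMap L[X] (FractionRing L[X]))).comp C) (i₂ ξ) =
        i₁.comp (algebraMap L[X] (FractionRing L[X])) := by
      refine Polynomial.ringHom_ext (fun a => by simp) ?_
      simpa using (h1 X).symm
    rw [this]
    exact i₁.injective.comp (IsFractionRing.injective L[X] (FractionRing L[X]))

end GrothLib.AlgSt.ClosedPointLift
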