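import Groth.Agent.Lib.AlgSt.ClosedPointLift.Stack
import Groth.Agent.Lib.AlgSt.ClosedPointLift.Algebra
import Groth.Agent.Lib.AlgSt.QC
import Groth.Agent.Lib.FibCat.SliceRepr

/-!
# Lifting algebraically closed points along morphisms with surjective diagonal
-/

set_option backward.isDefEq.respectTransparency false
set_option backward.isDefEq.respectTransparency.types false

universe u

open CategoryTheory CategoryTheory.Limits AlgebraicGeometry Opposite

namespace GrothLib.AlgSt.ClosedPointLift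

open _root_.AlgSt GrothLib.FibCat

variable {S : Scheme.{u}}

theorem points_map_ofSpMap_surjective {F G : AlgSp.Sp S} (a : F ⟶ G)
    (h : Function.Surjective (AlgSp.Points.map a)) : Function.Surjective (Points.map (ofSpMap a)) := fun q => by
  obtain ⟨z, hz⟩ := h (toSpPoints q)
  obtain ⟨p, rfl⟩ := toSpPoints_bijective.2 z
  exact ⟨p, toSpPoints_bijective.1 ((toSpPoints_map a p).trans hz)⟩

/-- A smooth atlas of a base change of an atlas, surjective on points. -/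
theorem exists_bc_atlas {𝒵 : _root_.AlgSt.Cat S} {T U : Over S} (a : _root_.FibCat.overCat T ⥤ᵇ 𝒵)
    (u : _root_.FibCat.overCat U ⥤ᵇ 𝒵) (hu : RepByAlgSpWith (AlgSp.LocP @Smooth) u) :
    ∃ (V : Over S) (z : _root_.FibCat.overCat V ⥤ᵇ _root_.FibCat.fp a u),
      Smooth (sliceHom (BasedFunctor.comp z (_root_.FibCat.fpFst a u))).left ∧
        Function.Surjective (Points.map z) := by
  obtain ⟨F, e, he, hsm⟩ := hu T a
  obtain ⟨V, q, qe, qs⟩ := F.property.atlas
  let L := BasedFunctor.comp (ofOverCat V) (BasedFunctor.comp (ofSpMap q) e)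
  let k₁ := BasedFunctor.comp L (_root_.FibCat.fpFst a u)
  let b := spMapOfOver (BasedFunctor.comp e (_root_.FibCat.fpFst a u))
  have hk : (AlgSp.yon S).map (sliceHom k₁) = q ≫ b := by
    rw [← spMapOfOver_overMap, ← spMapOfOver_congr (whiskerLeftIso (toOverCat V) (isoOverMap k₁))]
    refine (spMapOfOver_congr (whiskerRightIso (toOverCatCompIso V)
      (BasedFunctor.comp (ofSpMap q) (BasedFunctor.comp e (_root_.FibCat.fpFst a u))))).trans ?_
    refine (spMapOfOver_comp (ofSpMap q) (BasedFunctor.comp e (_root_.FibCat.fpFst a u))).trans ?_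
    rw [spHom_ofSpMap]
  refine ⟨V, L, hsm q (𝟙 _) (sliceHom k₁) qe (AlgSp.repWith_id _ T) (by rw [Category.comp_id, hk]), fun p => ?_⟩
  obtain ⟨p₁, rfl⟩ := (points_map_bijective_of_isEquivOver (isFibGrpd_ofSp F.obj) e he).2 p
  obtain ⟨p₂, rfl⟩ := points_map_ofSpMap_surjective q (GrothLib.AlgSp.surjective_map_of_repWith qs) p₁
  obtain ⟨p₃, rfl⟩ := (points_map_bijective_of_isEquivOver (isFibGrpd_overCat V) _ (isEquivOver_ofOverCat V)).2 p₂
  exact ⟨p₃, by simp only [L, points_map_comp]⟩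

theorem structHom_eq_hom_comp_sliceHom {X Y : Over S} (k : _root_.FibCat.overCat X ⥤ᵇ _root_.FibCat.overCat Y)
    (q : (_root_.FibCat.overCat X).obj) : structHom k q = q.hom ≫ sliceHom k :=
  (structHom_w k (Over.homMk q.hom (Category.comp_id _) : q ⟶ Yon.idObj X)).symm

/-- Structure morphisms of a point identified with the point of a chart. -/
theorem fptBase_comp_sliceHom {X Y : Over S} {𝒜 : _root_.AlgSt.Cat S} (z : _root_.FibCat.overCat X ⥤ᵇ 𝒜)
    (H : 𝒜 ⥤ᵇ _root_.FibCat.overCat Y) {p : FPt (_root_.FibCat.overCat X)} {r o : FPt 𝒜}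
    (m : r.obj ⟶ (p.map z).obj) (n : r.obj ⟶ o.obj) :
    (fptBase m ≫ eqToHom p.lies.symm ≫ p.obj.hom) ≫ sliceHom (BasedFunctor.comp z H) =
      fptBase n ≫ eqToHom o.lies.symm ≫ structHom H o.obj := by
  rw [Category.assoc, Category.assoc, ← structHom_eq_hom_comp_sliceHom]
  have h1 := structHom_w H m
  have h2 := structHom_w H n
  have h3 : structHom (BasedFunctor.comp z H) p.obj = eqToHom (z.w_obj p.obj).symm ≫ structHom H (z.obj p.obj) := by
    simp only [structHom, eqToHom_trans_assoc]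
    rfl
  rw [h3]
  simp only [fptBase, Category.assoc, eqToHom_trans_assoc, eqToHom_refl, Category.id_comp]
  change eqToHom r.lies.symm ≫ 𝒜.p.map m ≫ structHom H (p.map z).obj = _
  rw [h1, h2]

variable {𝒳 𝒴 : _root_.AlgSt.Cat S}

set_option maxHeartbeats 1600000 in
/-- An algebraically closed point in the image lifts when the diagonal is surjective. -/
theorem exists_lift (h𝒳 : IsAlgStack Scheme.fppfPrecoverage 𝒳) (h𝒴 : IsAlgStack Scheme.fppfPrecoverage 𝒴)
    (f : 𝒳 ⥤ᵇ 𝒴) (hΔ : _root_.AlgSt.IsSurjective (_root_.FibCat.diag f))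
    (k : Type u) [Field k] [IsAlgClosed k] (s : Spec (CommRingCat.of k) ⟶ S) (y : 𝒴.obj)
    (hy : 𝒴.p.obj y = Over.mk s)
    (h : Points.mk ⟨k, s, y, hy⟩ ∈ Set.range (Points.map f)) :
    ∃ (x : 𝒳.obj) (φ : f.obj x ⟶ y), 𝒳.p.obj x = Over.mk s ∧ 𝒴.p.IsHomLift (𝟙 (Over.mk s)) φ := by
  have g𝒳 := h𝒳.isStack.1
  have g𝒴 := h𝒴.isStack.1
  let Sk : Over S := Over.mk s
  obtain ⟨y', ey, hey⟩ := Yon.exists_functor g𝒴 y hy
  have hV := isAlgStack_overCat Sk
  have hZ := isAlgStack_fp h𝒴.isStack h𝒴.diag hV h𝒳 y' f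
  obtain ⟨U, u, hus, huj⟩ := hZ.atlas
  obtain ⟨u₀⟩ : Nonempty ↥U.left := by
    obtain ⟨x, hx⟩ := h
    have hp : Points.map y' (Points.mk ⟨k, s, Yon.idObj Sk, rfl⟩) = Points.mk ⟨k, s, y, hy⟩ :=
      Points.sound (rel_of_hom (r := FPt.map y' ⟨k, s, Yon.idObj Sk, rfl⟩) (p := ⟨k, s, y, hy⟩) ey.hom)
    obtain ⟨P, -, -⟩ := exists_points_fp g𝒳 (isFibGrpd_overCat Sk) g𝒴 f y' _ x (hp.trans hx.symm)
    obtain ⟨u₀, -⟩ := surjective_ofChart hZ.isStack.1 huj P
    exact ⟨u₀⟩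
  obtain ⟨_, ⟨O, hO, rfl⟩, hu₀, -⟩ :=
    U.left.isBasis_affineOpens.exists_subset_of_mem_open (Set.mem_univ u₀) isOpen_univ
  haveI : Nontrivial Γ(U.left, O) := by
    have := hO.isoSpec.hom ⟨u₀, hu₀⟩
    exact PrimeSpectrum.nonempty_iff_nontrivial.1 ⟨this⟩
  obtain ⟨M, hM⟩ := Ideal.exists_maximal Γ(U.left, O)
  let L : Type u := Γ(U.left, O) ⧸ M
  letI : Field L := Ideal.Quotient.field M
  let il : Spec (CommRingCat.of L) ⟶ U.left :=
    Spec.map (CommRingCat.ofHom (Ideal.Quotient.mk M)) ≫ hO.fromSpec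
  haveI : IsClosedImmersion (Spec.map (CommRingCat.ofHom (Ideal.Quotient.mk M))) :=
    IsClosedImmersion.spec_of_surjective _ Ideal.Quotient.mk_surjective
  haveI : LocallyOfFiniteType il := inferInstance
  let L' : Over S := Over.mk (il ≫ U.hom)
  let ia : L' ⟶ U := Over.homMk il rfl
  let π := _root_.FibCat.fpFst y' f
  let h₀ : U ⟶ Sk := sliceHom (BasedFunctor.comp u π)
  obtain ⟨φ, hφ⟩ : ∃ φ : k →+* L, Spec.map (CommRingCat.ofHom φ) = (ia ≫ h₀).left :=
    ⟨(Spec.preimage (ia ≫ h₀).left).hom, Spec.map_preimage _⟩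
  have hstr : Spec.map (CommRingCat.ofHom φ) ≫ s = L'.hom := by rw [hφ]; exact Over.w (ia ≫ h₀)
  let a := BasedFunctor.comp (_root_.AlgSt.overMap ia) u
  let kα : BasedFunctor.comp a π ≅ _root_.AlgSt.overMap (ia ≫ h₀) :=
    whiskerLeftIso (_root_.AlgSt.overMap ia) (isoOverMap (BasedFunctor.comp u π)) ≪≫ overMapCompIso ia h₀
  by_cases hsurj : Function.Surjective φ
  · let eφ := RingEquiv.ofBijective φ ⟨φ.injective, hsurj⟩
    have hinv : Spec.map (CommRingCat.ofHom eφ.symm.toRingHom) ≫ Spec.map (CommRingCat.ofHom φ) = 𝟙 _ := by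
      rw [← Spec.map_comp, ← Spec.map_id]
      congr 1
      exact CommRingCat.hom_ext (RingHom.ext fun c => eφ.symm_apply_apply c)
    let σ : Sk ⟶ L' := Over.homMk (Spec.map (CommRingCat.ofHom eφ.symm.toRingHom)) (by
      change Spec.map _ ≫ L'.hom = s
      rw [← hstr, ← Category.assoc, hinv, Category.id_comp])
    have hσ : σ ≫ ia ≫ h₀ = 𝟙 Sk := Over.OverMorphism.ext (by
      change Spec.map _ ≫ (ia ≫ h₀).left = 𝟙 _
      rw [← hφ, hinv])
    let o := a.obj (Over.mk σ)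
    have ho : 𝒳.p.obj o.obj.snd = Sk := (Fp.snd_proj o).trans (a.w_obj (Over.mk σ))
    let i1 : o.obj.fst ≅ Yon.idObj Sk := isoApp kα (Over.mk σ) ≪≫ Over.isoMk (Iso.refl _) (by
      change 𝟙 _ ≫ 𝟙 Sk = σ ≫ ia ≫ h₀
      rw [hσ, Category.id_comp])
    have h1 : (_root_.FibCat.overCat Sk).p.IsHomLift (𝟙 Sk) i1.hom := by
      have := isHomLift_isoApp kα (x := Over.mk σ) (U := Sk) rfl
      have h2 : (_root_.FibCat.overCat Sk).p.IsHomLift (𝟙 Sk) (Over.isoMk (Iso.refl _) (by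
          change 𝟙 _ ≫ 𝟙 Sk = σ ≫ ia ≫ h₀
          rw [hσ, Category.id_comp]) : (_root_.AlgSt.overMap (ia ≫ h₀)).obj (Over.mk σ) ≅ Yon.idObj Sk).hom :=
        IsHomLift.of_fac' (_root_.FibCat.overCat Sk).p _ _ rfl rfl (by simp; rfl)
      change (_root_.FibCat.overCat Sk).p.IsHomLift (𝟙 Sk) ((isoApp kα (Over.mk σ)).hom ≫ _)
      infer_instance
    have h3 : 𝒴.p.IsHomLift (𝟙 Sk) o.obj.iso.hom := by
      have e0 : (_root_.FibCat.overCat Sk).p.obj o.obj.fst = Sk := a.w_obj (Over.mk σ)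
      have key : ∀ R, R = (_root_.FibCat.overCat Sk).p.obj o.obj.fst → 𝒴.p.IsHomLift (𝟙 R) o.obj.iso.hom :=
        fun R hR => by subst hR; exact Fp.iso_lift o
      exact key _ e0.symm
    have h4 := isHomLift_id_inv 𝒴.p (R := Sk) o.obj.iso
    refine ⟨o.obj.snd, o.obj.iso.inv ≫ y'.map i1.hom ≫ ey.hom, ho, ?_⟩
    infer_instance
  · exfalso
    obtain ⟨ξ, hξ'⟩ := not_forall.1 hsurj
    have hξ : ∀ c, ξ ≠ φ c := fun c hc => hξ' ⟨c, hc.symm⟩
    obtain ⟨Ω, iΩ, σ₁, σ₂, hσ, hinj⟩ := exists_generic_pair φ hξ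
    let str : Spec (CommRingCat.of Ω) ⟶ S := Spec.map (CommRingCat.ofHom σ₁) ≫ L'.hom
    have hσk : Spec.map (CommRingCat.ofHom σ₁) ≫ Spec.map (CommRingCat.ofHom φ) =
        Spec.map (CommRingCat.ofHom σ₂) ≫ Spec.map (CommRingCat.ofHom φ) := by
      rw [← Spec.map_comp, ← Spec.map_comp, ← CommRingCat.ofHom_comp, ← CommRingCat.ofHom_comp, hσ]
    let g₁ : Over.mk str ⟶ L' := Over.homMk (Spec.map (CommRingCat.ofHom σ₁)) rfl
    let g₂ : Over.mk str ⟶ L' := Over.homMk (Spec.map (CommRingCat.ofHom σ₂)) (by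
      change Spec.map _ ≫ L'.hom = Spec.map _ ≫ L'.hom
      rw [← hstr, ← Category.assoc, ← Category.assoc, hσk])
    have hg : g₁ ≫ ia ≫ h₀ = g₂ ≫ ia ≫ h₀ := Over.OverMorphism.ext (by
      change Spec.map _ ≫ (ia ≫ h₀).left = Spec.map _ ≫ (ia ≫ h₀).left
      rw [← hφ, hσk])
    let jo : (_root_.AlgSt.overMap (ia ≫ h₀)).obj (Over.mk g₁) ≅ (_root_.AlgSt.overMap (ia ≫ h₀)).obj (Over.mk g₂) :=
      Over.isoMk (Iso.refl _) (by
        change 𝟙 _ ≫ g₂ ≫ ia ≫ h₀ = g₁ ≫ ia ≫ h₀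
        rw [hg, Category.id_comp])
    let τ : (a.obj (Over.mk g₁)).obj.fst ≅ (a.obj (Over.mk g₂)).obj.fst :=
      isoApp kα (Over.mk g₁) ≪≫ jo ≪≫ (isoApp kα (Over.mk g₂)).symm
    have hτ : (_root_.FibCat.overCat Sk).p.IsHomLift (𝟙 (Over.mk str)) τ.hom := by
      have := isHomLift_isoApp kα (x := Over.mk g₁) (U := Over.mk str) rfl
      have := isHomLift_isoApp kα (x := Over.mk g₂) (U := Over.mk str) rfl
      have := isHomLift_id_inv (_root_.FibCat.overCat Sk).p (R := Over.mk str) (isoApp kα (Over.mk g₂))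
      have : (_root_.FibCat.overCat Sk).p.IsHomLift (𝟙 (Over.mk str)) jo.hom :=
        IsHomLift.of_fac' (_root_.FibCat.overCat Sk).p _ _ rfl rfl (by simp; rfl)
      change (_root_.FibCat.overCat Sk).p.IsHomLift (𝟙 (Over.mk str))
        ((isoApp kα (Over.mk g₁)).hom ≫ jo.hom ≫ (isoApp kα (Over.mk g₂)).inv)
      infer_instance
    obtain ⟨Ω', iΩ', str', e, D, mA, mB, hmA, hmB⟩ :=
      exists_common_lift g𝒳 g𝒴 hΔ y' Ω str (a.obj (Over.mk g₁)) (a.obj (Over.mk g₂)) (a.w_obj _) (a.w_obj _) τ hτ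
    -- a point of the base change of the atlas
    have hA' : (_root_.FibCat.fp y' f).p.IsHomLift e
        (a.map (Over.homMk e rfl : Over.mk (e ≫ g₁) ⟶ Over.mk g₁)) :=
      @BasedFunctor.preserves_isHomLift _ _ _ _ a _ _ _ _ _ _
        (IsHomLift.map (_root_.FibCat.overCat L').p (Over.homMk e rfl : Over.mk (e ≫ g₁) ⟶ Over.mk g₁))
    have hB' : (_root_.FibCat.fp y' f).p.IsHomLift e
        (a.map (Over.homMk e rfl : Over.mk (e ≫ g₂) ⟶ Over.mk g₂)) :=
      @BasedFunctor.preserves_isHomLift _ _ _ _ a _ _ _ _ _ _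
        (IsHomLift.map (_root_.FibCat.overCat L').p (Over.homMk e rfl : Over.mk (e ≫ g₂) ⟶ Over.mk g₂))
    obtain ⟨iA, hiA, -⟩ := @IsFibGrpd.exists_iso_of_lifts _ _ _ _ _ hZ.isStack.1 _ _ e _ _ _ mA
      (a.map (Over.homMk e rfl : Over.mk (e ≫ g₁) ⟶ Over.mk g₁)) hmA hA'
    obtain ⟨iB, hiB, -⟩ := @IsFibGrpd.exists_iso_of_lifts _ _ _ _ _ hZ.isStack.1 _ _ e _ _ _ mB
      (a.map (Over.homMk e rfl : Over.mk (e ≫ g₂) ⟶ Over.mk g₂)) hmB hB'
    have hiB' := isHomLift_id_inv (_root_.FibCat.fp y' f).p (R := Over.mk str') iB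
    let O₀ : (_root_.FibCat.fp a u).obj :=
      Fp.mk (F := a) (G := u) (Over.mk (e ≫ g₁)) ((_root_.AlgSt.overMap ia).obj (Over.mk (e ≫ g₂))) (iA ≪≫ iB.symm)
        (show (_root_.FibCat.fp y' f).p.IsHomLift (𝟙 (Over.mk str')) (iA.hom ≫ iB.inv) by infer_instance)
    obtain ⟨V, z, hc, hzs⟩ := exists_bc_atlas a u hus
    let c : V ⟶ L' := sliceHom (BasedFunctor.comp z (_root_.FibCat.fpFst a u))
    let l : V ⟶ U := sliceHom (BasedFunctor.comp z (_root_.FibCat.fpSnd a u))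
    obtain ⟨p, hp⟩ := hzs (Points.mk ⟨Ω', str', O₀, rfl⟩)
    obtain ⟨p, rfl⟩ := Points.mk_surjective p
    obtain ⟨r, m, n, -⟩ := rel_of_mk_eq (Fp.isFibGrpd (isFibGrpd_overCat L') (isFibGrpd_overCat U) hZ.isStack.1) hp
    -- the base maps
    let d : Over.mk r.str ⟶ Over.mk str' := fptBase n
    let gV : Over.mk r.str ⟶ V := fptBase m ≫ eqToHom p.lies.symm ≫ p.obj.hom
    have hgc : gV ≫ c = d ≫ e ≫ g₁ := by
      refine (fptBase_comp_sliceHom z (_root_.FibCat.fpFst a u) m n).trans ?_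
      change d ≫ 𝟙 _ ≫ 𝟙 _ ≫ (e ≫ g₁) = _
      simp
    have hgl : gV ≫ l = (d ≫ e ≫ g₂) ≫ ia := by
      refine (fptBase_comp_sliceHom z (_root_.FibCat.fpSnd a u) m n).trans ?_
      change d ≫ 𝟙 _ ≫ 𝟙 _ ≫ ((e ≫ g₂) ≫ ia) = _
      simp
    -- the scheme of pairs
    let W := pullback l ia
    let p₁ : W ⟶ L' := pullback.fst l ia ≫ c
    let p₂ : W ⟶ L' := pullback.snd l ia
    have hp₁₂ : p₁ ≫ ia ≫ h₀ = p₂ ≫ ia ≫ h₀ := by
      have i₁ : BasedFunctor.comp (_root_.AlgSt.overMap c) a ≅ BasedFunctor.comp (_root_.AlgSt.overMap l) u :=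
        (whiskerRightIso (isoOverMap (BasedFunctor.comp z (_root_.FibCat.fpFst a u))) a).symm ≪≫
          whiskerLeftIso z (_root_.FibCat.fpIso a u) ≪≫
          whiskerRightIso (isoOverMap (BasedFunctor.comp z (_root_.FibCat.fpSnd a u))) u
      have hcl : c ≫ ia ≫ h₀ = l ≫ h₀ := by
        rw [← sliceHom_comp_overMap c (ia ≫ h₀), ← sliceHom_comp_overMap l h₀]
        exact sliceHom_congr ((whiskerLeftIso (_root_.AlgSt.overMap c) kα).symm ≪≫ whiskerRightIso i₁ π ≪≫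
          whiskerLeftIso (_root_.AlgSt.overMap l) (isoOverMap (BasedFunctor.comp u π)))
      calc p₁ ≫ ia ≫ h₀ = pullback.fst l ia ≫ l ≫ h₀ := by rw [← hcl, Category.assoc]
        _ = p₂ ≫ ia ≫ h₀ := by rw [← Category.assoc, pullback.condition, Category.assoc]
    haveI : Smooth c.left := hc
    haveI : LocallyOfFiniteType (pullback.fst l ia).left :=
      MorphismProperty.of_isPullback ((IsPullback.of_hasPullback l ia).map (Over.forget S)).flip ‹LocallyOfFiniteType il›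
    haveI : LocallyOfFiniteType p₁.left := inferInstanceAs (LocallyOfFiniteType ((pullback.fst l ia).left ≫ c.left))
    let gW : Over.mk r.str ⟶ W := pullback.lift gV (d ≫ e ≫ g₂) hgl
    have hgW₁ : gW.left ≫ p₁.left = (d ≫ e ≫ g₁).left := by
      rw [← Over.comp_left, ← Category.assoc, pullback.lift_fst, hgc]
    have hgW₂ : gW.left ≫ p₂.left = (d ≫ e ≫ g₂).left := by
      rw [← Over.comp_left, pullback.lift_snd]
    obtain ⟨_, ⟨W₀, hW₀, rfl⟩, hwW₀, -⟩ := W.left.isBasis_affineOpens.exists_subset_of_mem_open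
      (Set.mem_univ (gW.left (IsLocalRing.closedPoint r.K))) isOpen_univ
    obtain ⟨χ, hχ⟩ : ∃ χ : Γ(W.left, W₀) →+* r.K, Spec.map (CommRingCat.ofHom χ) ≫ hW₀.fromSpec = gW.left := by
      have hr : Set.range gW.left ⊆ Set.range hW₀.fromSpec := by
        rw [hW₀.range_fromSpec]
        rintro _ ⟨q, rfl⟩
        rw [@Subsingleton.elim _ (inferInstanceAs (Subsingleton (PrimeSpectrum r.K))) q (IsLocalRing.closedPoint r.K)]
        exact hwW₀
      exact ⟨(Spec.preimage (IsOpenImmersion.lift hW₀.fromSpec gW.left hr)).hom, by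
        rw [CommRingCat.ofHom_hom, Spec.map_preimage, IsOpenImmersion.lift_fac]⟩
    obtain ⟨α, hα⟩ : ∃ α : L →+* Γ(W.left, W₀), Spec.map (CommRingCat.ofHom α) = hW₀.fromSpec ≫ p₁.left :=
      ⟨(Spec.preimage (hW₀.fromSpec ≫ p₁.left)).hom, Spec.map_preimage _⟩
    obtain ⟨β, hβ⟩ : ∃ β : L →+* Γ(W.left, W₀), Spec.map (CommRingCat.ofHom β) = hW₀.fromSpec ≫ p₂.left :=
      ⟨(Spec.preimage (hW₀.fromSpec ≫ p₂.left)).hom, Spec.map_preimage _⟩
    have hαft : α.FiniteType := by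
      have : LocallyOfFiniteType (Spec.map (CommRingCat.ofHom α)) := hα ▸ inferInstance
      exact (HasRingHomProperty.Spec_iff (P := @LocallyOfFiniteType)).1 this
    have hαβ : β.comp φ = α.comp φ := by
      refine congrArg CommRingCat.Hom.hom (Spec.map_injective (?_ :
        Spec.map (CommRingCat.ofHom (β.comp φ)) = Spec.map (CommRingCat.ofHom (α.comp φ))))
      rw [CommRingCat.ofHom_comp, CommRingCat.ofHom_comp, Spec.map_comp, Spec.map_comp, hα, hβ, hφ,
        Category.assoc, Category.assoc, ← Over.comp_left, ← Over.comp_left, hp₁₂]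
    obtain ⟨de, hde⟩ : ∃ de : Ω →+* r.K, Spec.map (CommRingCat.ofHom de) = (d ≫ e).left :=
      ⟨(Spec.preimage (d ≫ e).left).hom, Spec.map_preimage _⟩
    have h1 : χ.comp α = de.comp σ₁ := by
      refine congrArg CommRingCat.Hom.hom (Spec.map_injective (?_ :
        Spec.map (CommRingCat.ofHom (χ.comp α)) = Spec.map (CommRingCat.ofHom (de.comp σ₁))))
      rw [CommRingCat.ofHom_comp, CommRingCat.ofHom_comp, Spec.map_comp, Spec.map_comp, hα, hde,
        reassoc_of% hχ, hgW₁]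
      rfl
    have h2 : χ.comp β = de.comp σ₂ := by
      refine congrArg CommRingCat.Hom.hom (Spec.map_injective (?_ :
        Spec.map (CommRingCat.ofHom (χ.comp β)) = Spec.map (CommRingCat.ofHom (de.comp σ₂))))
      rw [CommRingCat.ofHom_comp, CommRingCat.ofHom_comp, Spec.map_comp, Spec.map_comp, hβ, hde,
        reassoc_of% hχ, hgW₂]
      rfl
    haveI : (RingHom.ker χ).IsPrime := RingHom.ker_isPrime χ
    haveI : Infinite k := IsAlgClosed.instInfinite
    refine comap_ne_bot φ hξ α β hαft hαβ (RingHom.ker χ) ?_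
    rw [RingHom.comap_ker, RingHom.ker_eq_bot_iff_eq_zero]
    have heq : χ.comp (Polynomial.eval₂RingHom α (β ξ)) = de.comp (Polynomial.eval₂RingHom σ₁ (σ₂ ξ)) := by
      refine Polynomial.ringHom_ext (fun c => ?_) ?_
      · simpa using RingHom.congr_fun h1 c
      · simpa using RingHom.congr_fun h2 ξ
    rw [heq]
    exact (injective_iff_map_eq_zero _).1 (de.injective.comp hinj)

end GrothLib.AlgSt.ClosedPointLift
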