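import Groth.Agent.Lib.AlgSt.Topology
import Groth.Agent.Lib.AlgSt.DiagLFT
import Groth.Agent.Lib.AlgSt.LocQChart
import Groth.Agent.Lib.FibCat.FpFibred

/-!
# Objects identified after an extension when the diagonal is surjective
-/

set_option backward.isDefEq.respectTransparency false
set_option backward.isDefEq.respectTransparency.types false

universe u

open CategoryTheory CategoryTheory.Limits AlgebraicGeometry Opposite

namespace GrothLib.AlgSt.ClosedPointLift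

open _root_.AlgSt GrothLib.FibCat

variable {S : Scheme.{u}} {𝒳 𝒴 : _root_.AlgSt.Cat S} {f : 𝒳 ⥤ᵇ 𝒴}

/-- With surjective diagonal, two objects of a fibre over isomorphic points have a common extension. -/
theorem exists_common_lift {T : Over S} (h𝒳 : _root_.FibCat.IsFibGrpd 𝒳.p) (h𝒴 : _root_.FibCat.IsFibGrpd 𝒴.p)
    (hΔ : _root_.AlgSt.IsSurjective (_root_.FibCat.diag f)) (y : _root_.FibCat.overCat T ⥤ᵇ 𝒴)
    (Ω : Type u) [Field Ω] (str : Spec (CommRingCat.of Ω) ⟶ S)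
    (A B : (_root_.FibCat.fp y f).obj) (hA : (_root_.FibCat.fp y f).p.obj A = Over.mk str)
    (hB : (_root_.FibCat.fp y f).p.obj B = Over.mk str)
    (τ : A.obj.fst ≅ B.obj.fst) (hτ : (_root_.FibCat.overCat T).p.IsHomLift (𝟙 (Over.mk str)) τ.hom) :
    ∃ (Ω' : Type u) (_ : Field Ω') (str' : Spec (CommRingCat.of Ω') ⟶ S) (e : Over.mk str' ⟶ Over.mk str)
      (D : (_root_.FibCat.fp y f).obj) (mA : D ⟶ A) (mB : D ⟶ B),
      (_root_.FibCat.fp y f).p.IsHomLift e mA ∧ (_root_.FibCat.fp y f).p.IsHomLift e mB := by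
  have gT := isFibGrpd_overCat T
  have hA2 : 𝒳.p.obj A.obj.snd = Over.mk str := (Fp.snd_proj A).trans hA
  let iy : y.obj A.obj.fst ≅ y.obj B.obj.fst := y.toFunctor.mapIso τ
  let oiso : f.obj A.obj.snd ≅ f.obj B.obj.snd := A.obj.iso.symm ≪≫ iy ≪≫ B.obj.iso
  have hoi : 𝒴.p.IsHomLift (𝟙 (Over.mk str)) oiso.hom := by
    have h1 : 𝒴.p.IsHomLift (𝟙 (Over.mk str)) A.obj.iso.hom := hA ▸ Fp.iso_lift A
    have h3 : 𝒴.p.IsHomLift (𝟙 (Over.mk str)) B.obj.iso.hom := hB ▸ Fp.iso_lift B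
    have h1' := isHomLift_id_inv 𝒴.p (R := Over.mk str) A.obj.iso
    have h2 : 𝒴.p.IsHomLift (𝟙 (Over.mk str)) iy.hom :=
      inferInstanceAs (𝒴.p.IsHomLift (𝟙 (Over.mk str)) (y.map τ.hom))
    change 𝒴.p.IsHomLift (𝟙 (Over.mk str)) (A.obj.iso.inv ≫ iy.hom ≫ B.obj.iso.hom)
    infer_instance
  let o : (_root_.FibCat.fp f f).obj := Fp.mk A.obj.snd B.obj.snd oiso (hA2.symm ▸ hoi)
  obtain ⟨q, hq⟩ := hΔ (Points.mk { K := Ω, str := str, obj := o, lies := hA2 })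
  obtain ⟨q, rfl⟩ := Points.mk_surjective q
  obtain ⟨r, m, n, -⟩ := rel_of_mk_eq (Fp.isFibGrpd h𝒳 h𝒳 h𝒴) hq
  let e : Over.mk r.str ⟶ Over.mk str := fptBase n
  let d : Over.mk r.str ⟶ Over.mk q.str := fptBase m
  have hn1 : 𝒳.p.IsHomLift e n.hom.fst := (Fp.isHomLift_iff n e).1 (isHomLift_fptBase n)
  have hn2 : 𝒳.p.IsHomLift e n.hom.snd := Fp.isHomLift_snd n e (isHomLift_fptBase n)
  have hm1 : 𝒳.p.IsHomLift d m.hom.fst := (Fp.isHomLift_iff m d).1 (isHomLift_fptBase m)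
  have hm2 : 𝒳.p.IsHomLift d m.hom.snd := Fp.isHomLift_snd m d (isHomLift_fptBase m)
  -- the isomorphism upstairs
  obtain ⟨φ, hφ, hφm⟩ := @IsFibGrpd.exists_iso_of_lifts _ _ _ _ _ h𝒳 _ _ d _ _ _ m.hom.snd m.hom.fst hm2 hm1
  have hwm : f.map m.hom.fst ≫ 𝟙 _ = r.obj.obj.iso.hom ≫ f.map m.hom.snd := Fp.w m
  rw [Category.comp_id] at hwm
  have hr : r.obj.obj.iso.hom = f.map φ.hom := by
    have i1 : 𝒴.p.IsHomLift (𝟙 (Over.mk r.str)) r.obj.obj.iso.hom := r.lies ▸ Fp.iso_lift r.obj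
    have i2 : 𝒴.p.IsHomLift (𝟙 (Over.mk r.str)) (f.map φ.hom) := inferInstance
    have i3 : 𝒴.p.IsHomLift d (f.map m.hom.snd) := inferInstance
    refine IsFibGrpd.hom_ext h𝒴 (𝟙 (Over.mk r.str)) d (f.map m.hom.snd) ?_
    rw [← hwm, ← f.map_comp, hφm]
  have hwn : f.map n.hom.fst ≫ oiso.hom = r.obj.obj.iso.hom ≫ f.map n.hom.snd := Fp.w n
  -- the common extension
  obtain ⟨t, α, hα⟩ := IsFibGrpd.exists_lift_of_eq gT hA e
  let e' : Over.mk r.str ⟶ (_root_.FibCat.overCat T).p.obj A.obj.fst := e ≫ eqToHom hA.symm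
  have hα' : (_root_.FibCat.overCat T).p.IsHomLift e' α := inferInstance
  have hn1' : 𝒳.p.IsHomLift e' n.hom.fst := by
    have : 𝒳.p.IsHomLift e n.hom.fst := hn1
    infer_instance
  haveI : 𝒴.p.IsCartesian e' (y.map α) := by
    have := IsFibGrpd.isStronglyCartesian' h𝒴 e' (y.map α)
    infer_instance
  haveI : 𝒴.p.IsCartesian e' (f.map n.hom.fst) := by
    have := IsFibGrpd.isStronglyCartesian' h𝒴 e' (f.map n.hom.fst)
    infer_instance
  obtain ⟨c, hc, hcw, hcl⟩ := Fp.exists_homMk (F := y) (G := f) (b := A) e' α n.hom.fst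
  let D : (_root_.FibCat.fp y f).obj := Fp.mk t r.obj.obj.fst c hc
  have hw : y.map (α ≫ τ.hom) ≫ B.obj.iso.hom = c.hom ≫ f.map (φ.hom ≫ n.hom.snd) := by
    rw [f.map_comp, ← hr, ← hwn, y.map_comp, Category.assoc]
    change y.map α ≫ iy.hom ≫ B.obj.iso.hom = c.hom ≫ f.map n.hom.fst ≫ A.obj.iso.inv ≫ iy.hom ≫ B.obj.iso.hom
    rw [← Category.assoc c.hom, ← hcw, Category.assoc, Iso.hom_inv_id_assoc]
  refine ⟨r.K, inferInstance, r.str, e, D, Fp.homMk α n.hom.fst hcw, Fp.homMk (α ≫ τ.hom) (φ.hom ≫ n.hom.snd) hw,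
    (Fp.isHomLift_iff _ _).2 hα, (Fp.isHomLift_iff _ _).2 ?_⟩
  exact IsHomLift.comp_lift_id_right' (_root_.FibCat.overCat T).p e α (Over.mk str) τ.hom

end GrothLib.AlgSt.ClosedPointLift
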